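import Cfsg.Agent.Lib.JRec.Main
import Cfsg.Agent.Lib.JK.A5

/-!
# The extraspecial subgroup of the centralizer contains its centralizer
-/

set_option autoImplicit false
set_option maxRecDepth 100000

namespace CfsgLib.JRec

open CfsgLib.HJ CfsgLib.ExtraTwo CfsgLib.LargeExtra Subgroup

variable {G : Type*} [Group G]

theorem exists_comm_pair {Q : Subgroup G} {z e : G} (h : ES Q z) (hQ : 8 < Nat.card Q) (he : e ∈ Q) :
    ∃ a ∈ Q, ∃ b ∈ Q, a * e = e * a ∧ b * e = e * b ∧ a * b ≠ b * a := by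
  classical
  by_contra hc
  push Not at hc
  obtain ⟨f, hf, hef⟩ : ∃ f ∈ Q, f * e ≠ e * f := by
    by_contra hn
    push Not at hn
    obtain ⟨a, ha, b, hb, hab⟩ := h.nonab
    exact hab (hc a ha b hb (hn a ha) (hn b hb))
  have k0 : ∀ d ∈ Q, d * e = e * d → d * f = f * d → d = 1 ∨ d = z := fun d hd e1 e2 =>
    h.center d hd fun q hq => by
      by_cases e3 : q * e = e * q
      · exact hc q hq d hd e3 e1
      · have := hc _ (mul_mem hq hf) d hd (h.mul_comm_of_not_comm he hq hf e3 hef) e1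
        rwa [mul_assoc, ← e2, ← mul_assoc, ← mul_assoc, mul_left_inj] at this
  have k : ∀ d ∈ Q, d * e = e * d → d = 1 ∨ d = z ∨ d = e⁻¹ ∨ d = z * e⁻¹ := fun d hd e1 => by
    by_cases e2 : d * f = f * d
    · have := k0 d hd e1 e2; tauto
    · have := k0 _ (mul_mem hd he) (by rw [← mul_assoc, ← e1]) (h.mul_comm_of_not_comm hf hd he e2 hef.symm)
      rw [mul_eq_one_iff_eq_inv, ← eq_mul_inv_iff_mul_eq] at this
      tauto
  have hs : (Q : Set G) ⊆
      ([1, z, e⁻¹, z * e⁻¹, 1 * f⁻¹, z * f⁻¹, e⁻¹ * f⁻¹, z * e⁻¹ * f⁻¹].toFinset : Finset G) := by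
    intro c hc
    simp only [List.coe_toFinset, List.mem_cons, Set.mem_ofPred_eq, eq_mul_inv_iff_mul_eq (c := f)]
    by_cases e1 : c * e = e * c
    · have := k c hc e1; tauto
    · have := k _ (mul_mem hc hf) (h.mul_comm_of_not_comm he hc hf e1 hef); tauto
  have := Set.ncard_le_ncard hs
  rw [Set.ncard_coe_finset, ← Nat.card_coe_set_eq] at this
  exact absurd (this.trans (List.toFinset_card_le _)) (not_le.2 hQ)

theorem alt_five_comm {a b c : alternatingGroup (Fin 5)} (ha : c * a = a * c) (hb : c * b = b * c)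
    (h : c ≠ 1) : a * b = b * a := by
  by_cases h2 : c * c = 1
  · obtain ⟨q, hq⟩ := JK.a5_conj c h2 h
    have k : ∀ a, Commute c a → a * a = 1 := fun a ha => by
      have := (JK.a5_centa _ (hq ▸ comm_conj (s := q) ha.symm)).1
      rwa [conj_mul, conj_eq_one_iff] at this
    exact (AltCover.commute_of_sq (k a ha) (k b hb) ((sq _).trans (k _ (Commute.mul_right ha hb)))).eq
  · obtain ⟨i, -, rfl⟩ := JK.a5_cent' c a h2 ha
    obtain ⟨j, -, rfl⟩ := JK.a5_cent' c b h2 hb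
    exact (Commute.pow_pow_self c i j).eq

theorem centralizer_le [Finite G] [IsSimpleGroup G] {t : G} (ht : orderOf t = 2)
    (E : Subgroup (centralizer ({t} : Set G))) [E.Normal] (hE : Nat.card E = 32)
    (hX : Cfsg.IsExtraspecial 2 E) (e : centralizer ({t} : Set G) ⧸ E ≃* alternatingGroup (Fin 5)) :
    centralizer (E : Set (centralizer ({t} : Set G))) ≤ E := by
  let π := e.toMonoidHom.comp (QuotientGroup.mk' E)
  have hs : Function.Surjective π := e.surjective.comp (QuotientGroup.mk'_surjective E)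
  have hk : ∀ {c}, π c = 1 ↔ c ∈ E := fun {c} =>
    (map_eq_one_iff _ e.injective).trans (QuotientGroup.eq_one_iff c)
  let z : centralizer ({t} : Set G) := ⟨t, mem_cent.2 rfl⟩
  have hz : ∀ c, c * z = z * c := fun c => Subtype.ext (mem_cent.1 c.2)
  have h : ES E z := es_of_comm hX (fun e => ne_one_of_orderOf ht (congrArg Subtype.val e)) (hk.1 (by
    rw [← mem_bot, ← alternatingGroup.center_eq_bot (by simp), mem_center_iff]
    intro c
    obtain ⟨c, rfl⟩ := hs c
    rw [← map_mul, hz, map_mul])) fun c _ => hz c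
  rcases ((normal_centralizer (H := E)).map π hs).eq_bot_or_eq_top with h1 | h1
  · exact fun c hc => hk.1 (h1.le ⟨c, hc, rfl⟩)
  have dec : ∀ c, ∃ x ∈ E, ∃ k ∈ centralizer (E : Set (centralizer ({t} : Set G))), c = x * k := fun c => by
    obtain ⟨k, h2, h3⟩ := h1.ge (mem_top (π c))
    exact ⟨c * k⁻¹, hk.1 (by rw [map_mul, map_inv, h3, mul_inv_cancel]), k, h2, by group⟩
  have key : ∀ a b : centralizer ({t} : Set G), a * b * a⁻¹ * b⁻¹ * a = a * (a * b * a⁻¹ * b⁻¹) →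
      a * b * a⁻¹ * b⁻¹ * b = b * (a * b * a⁻¹ * b⁻¹) → a * b * a⁻¹ * b⁻¹ ∈ zpowers z := fun a b h2 h3 => by
    have h4 : a * b * a⁻¹ * b⁻¹ ∈ E := hk.1 (by_contra fun h => h (by
      simp [alt_five_comm (a := π a) (b := π b) (by rw [← map_mul, h2, map_mul])
        (by rw [← map_mul, h3, map_mul]) h]))
    obtain ⟨x, hx, k, hk, rfl⟩ := dec a
    obtain ⟨y, hy, l, hl, rfl⟩ := dec b
    have h5 := mul_mem (mul_mem (mul_mem hk hl) (inv_mem hk)) (inv_mem hl)
    have e1 : x * k * (y * l) * (x * k)⁻¹ * (y * l)⁻¹ = x * y * x⁻¹ * y⁻¹ * (k * l * k⁻¹ * l⁻¹) := by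
      calc _ = x * (k * y) * (l * k⁻¹ * (x⁻¹ * l⁻¹)) * y⁻¹ := by group
        _ = x * y * (k * l * k⁻¹ * l⁻¹ * (x⁻¹ * y⁻¹)) := by
          rw [← hk y hy, inv_mem hl _ (inv_mem hx)]; group
        _ = _ := by rw [← h5 _ (mul_mem (inv_mem hx) (inv_mem hy))]; group
    rw [e1] at h4 ⊢
    exact mul_mem (h.mem_zpowers.2 (h.commutator hx hy)) (h.mem_zpowers.2 (h.center _
      ((mul_mem_cancel_left (mul_mem (mul_mem (mul_mem hx hy) (inv_mem hx)) (inv_mem hy))).1 h4) h5))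
  obtain ⟨g, hg, hne⟩ : ∃ g, Commute t (g * t * g⁻¹) ∧ g * t * g⁻¹ ≠ t := by
    obtain ⟨a, -, b, -, hab⟩ := h.nonab
    by_contra hi
    push Not at hi
    exact ZStar.not_isolated_of_simple (fun _ => hab (Subtype.ext (mul_comm' _ _))) t ⟨ht, hi⟩
  obtain ⟨x, hx, k, hk, e1⟩ := dec ⟨_, mem_cent.2 hg.symm⟩
  obtain ⟨a, ha, b, hb, h2, h3, h4⟩ := exists_comm_pair h (by omega) hx
  have c : ∀ a ∈ E, a * x = x * a → g⁻¹ * a * g⁻¹⁻¹ ∈ centralizer ({t} : Set G) := fun a ha h => by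
    have : a * (x * k) = x * k * a := by rw [← mul_assoc, h, mul_assoc, hk a ha, mul_assoc]
    rw [← e1] at this
    simpa [mem_cent, mul_assoc] using comm_conj (s := g⁻¹) (congrArg Subtype.val this)
  have e2 : g⁻¹ * a * g⁻¹⁻¹ * (g⁻¹ * b * g⁻¹⁻¹) * (g⁻¹ * a * g⁻¹⁻¹)⁻¹ * (g⁻¹ * b * g⁻¹⁻¹)⁻¹ =
      g⁻¹ * t * g⁻¹⁻¹ := by
    have : (a : G) * b = t * (b * a) := congrArg Subtype.val (h.comm_of_ne ha hb h4)
    calc _ = g⁻¹ * (a * b) * (a : G)⁻¹ * (b : G)⁻¹ * g := by group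
      _ = _ := by rw [this]; group
  have := h.mem_zpowers.1 (key ⟨_, c a ha h2⟩ ⟨_, c b hb h3⟩
    (Subtype.ext (by simpa only [coe_mul, coe_inv, e2] using comm_conj (s := g⁻¹) (mem_cent.1 a.2).symm))
    (Subtype.ext (by simpa only [coe_mul, coe_inv, e2] using comm_conj (s := g⁻¹) (mem_cent.1 b.2).symm)))
  simp only [Subtype.ext_iff, coe_mul, coe_inv, e2, coe_one, conj_eq_one_iff] at this
  rcases this with e | e
  · exact absurd e (ne_one_of_orderOf ht)
  · exact absurd (by nth_rewrite 1 [← show _ = t from e]; group) hne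

/-- An involution centralizer of shape `2^(1+4).A₅` in a simple group yields the amalgam. -/
theorem exists_amal_alt [Finite G] [IsSimpleGroup G] {t : G} (ht : orderOf t = 2)
    (E : Subgroup (centralizer ({t} : Set G))) [E.Normal] (hE : Nat.card E = 32)
    (hX : Cfsg.IsExtraspecial 2 E) (e : centralizer ({t} : Set G) ⧸ E ≃* alternatingGroup (Fin 5)) :
    ∃ q u n y r, Amal (amb E) t q u n y r :=
  exists_amal_of_simple ht E hX hE (centralizer_le ht E hE hX e) (card_cent E hE e Dickson.card_A5)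

end CfsgLib.JRec
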