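import Cfsg.Agent.Lib.JRec.Model
import Cfsg.Agent.Lib.SL2.PSL
import Cfsg.Agent.S0981

/-!
# The subgroup `L₂(16):2` of the third Janko group
-/

set_option autoImplicit false
set_option maxRecDepth 100000
set_option Elab.async false

namespace CfsgLib.JRec

open CfsgLib.Comput Subgroup

variable {G : Type*} [Group G]

theorem mem_of_pow_prime [Finite G] {M : Subgroup G} [M.Normal] {p : ℕ} (hp : p.Prime)
    (h1 : p ∣ Nat.card M) (h2 : ¬ p * p ∣ Nat.card G) {x : G} (hx : x ^ p = 1) : x ∈ M := by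
  have h3 : ¬ p ∣ M.index := fun h => h2 (M.card_mul_index ▸ Nat.mul_dvd_mul h1 h)
  have h4 := pow_gcd_eq_one.2 ⟨(map_pow _ x p).symm.trans (hx ▸ map_one (QuotientGroup.mk' M)),
    (map_pow _ x _).symm.trans ((QuotientGroup.eq_one_iff _).2 (M.pow_index_mem x))⟩
  rwa [(hp.coprime_iff_not_dvd.2 h3).gcd_eq_one, pow_one, QuotientGroup.mk'_apply,
    QuotientGroup.eq_one_iff] at h4

theorem simple_of_4080 (hG : Nat.card G = 4080) {a b v : G} (ht : closure {a, b} = ⊤) (a1 : a ≠ 1)
    (a3 : a ^ 3 = 1) (b3 : b ^ 3 = 1) (v5 : v ^ 5 = 1) (va : (v * a) ^ 5 = 1) (w17 : orderOf (a * b) = 17)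
    (wa : (a * b * a) ^ 17 = 1) (hc : ∀ t, orderOf t = 2 → t * (a * b) ≠ a * b * t) : IsSimpleGroup G := by
  have : Finite G := Nat.finite_of_card_ne_zero (by omega)
  have : Nontrivial G := ⟨_, _, a1⟩
  have : Fact (Nat.Prime 3) := ⟨by norm_num⟩
  refine ⟨fun M hM => or_iff_not_imp_right.2 fun h => ?_⟩
  have h3 : ¬ 3 ∣ Nat.card M := fun e => h (by
    rw [eq_top_iff, ← ht, closure_le, Set.pair_subset_iff]
    exact ⟨mem_of_pow_prime (by norm_num) e (by omega) a3, mem_of_pow_prime (by norm_num) e (by omega) b3⟩)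
  have ha : a ∉ M := fun e => h3 (orderOf_eq_prime a3 a1 ▸ M.orderOf_dvd_natCard e)
  have k : ∀ p v, p.Prime → ¬ p * p ∣ 4080 → v ^ p = 1 → (v * a) ^ p = 1 → ¬ p ∣ Nat.card M :=
    fun p v hp h2 e1 e2 e => ha ((M.mul_mem_cancel_left (mem_of_pow_prime hp e (hG ▸ h2) e1)).1
      (mem_of_pow_prime hp e (hG ▸ h2) e2))
  have h5 := k 5 v (by norm_num) (by norm_num) v5 va
  have h17 := k 17 _ (by norm_num) (by norm_num) (w17 ▸ pow_orderOf_eq_one _) wa
  have k2 : ∀ m ∈ Nat.divisors 4080, ¬ 3 ∣ m → ¬ 5 ∣ m → ¬ 17 ∣ m → m ≤ 16 ∧ (m = 1 ∨ 2 ∣ m) := by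
    decide +kernel
  obtain ⟨h6, h7 | h7⟩ := k2 _ (Nat.mem_divisors.2 ⟨hG ▸ M.card_subgroup_dvd_card, by norm_num⟩) h3 h5 h17
  · exact card_eq_one.1 h7
  obtain ⟨t, ot⟩ := exists_prime_orderOf_dvd_card' (G := M) 2 h7
  have h8 : MulAut.toPerm M (MulAut.conjNormal (a * b)) = 1 := by
    refine orderOf_eq_one_iff.1 (((Nat.dvd_prime (by norm_num : Nat.Prime 17)).1 (w17 ▸
      (orderOf_map_dvd _ _).trans (orderOf_map_dvd _ _))).resolve_right fun e => ?_)
    have := orderOf_dvd_natCard (MulAut.toPerm M (MulAut.conjNormal (a * b)))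
    rw [e, Nat.card_perm, Nat.Prime.dvd_factorial (by norm_num)] at this
    omega
  exact absurd (mul_inv_eq_iff_eq_mul.1 (congrArg (fun f : Equiv.Perm M => (f t : G)) h8)).symm
    (hc t (by rw [orderOf_coe, ot]))

theorem exists_sl2_16 (e : G ≃* J3.PG) : ∃ (H : Subgroup G) (N : Subgroup H) (K : Type) (_ : Field K)
    (_ : Fintype K), N.Normal ∧ N.index = 2 ∧ Fintype.card K = 16 ∧
      Nonempty (N ≃* Matrix.SpecialLinearGroup (Fin 2) K) := by
  have : Finite G := Finite.of_equiv _ e.toEquiv.symm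
  let _ := pullAct e
  have M := SM.pull e J3.P.W_ok HJC.p3_mem (by norm_num)
  have W := WM.pull e J3.P.W_ok HJC.p3_mem (k := 13) (by norm_num)
  have E := J3.P.eqs_of_WM W
  generalize hg : pullG e HJC.p3_mem = g at M W E
  have hH : Nat.card (cl g J3.P.L0.hs) = 8160 := J3.P.card_1 M E
  have hle : cl g [8, 16] ≤ cl g J3.P.L0.hs := cl_le_of_inA (J3.P.inA_1 E) (by decide +kernel)
  have h1 : 4080 ≤ Nat.card (cl g [8, 16]) := lbVal_le_of_inA M (inA_cl g _)
    (lv := [(15, 10, [8, 16]), (1, 3, [0x8100808, 0x8081008100810081008100810100810])]) (by decide +kernel)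
  have h2 : cl g [8, 16] ≠ cl g J3.P.L0.hs := fun h => by
    have h3 : finPt 6156 1395 ∈ MulAction.orbit (cl g [8, 16]) (finPt 6156 15) :=
      ⟨⟨ev g 10, h ▸ ev_mem (J3.P.inA_1 E) (by decide +kernel)⟩,
        M.smul_pt (w := 10) (by norm_num) (by norm_num) (by decide +kernel)⟩
    rw [M.orbit_eq (r := 10) (by norm_num) (by decide +kernel), M.mem_sem (by norm_num)] at h3
    exact absurd h3 (by decide +kernel)
  have h3 := ((cl g [8, 16]).subgroupOf (cl g J3.P.L0.hs)).card_mul_index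
  have h4 : ((cl g [8, 16]).subgroupOf (cl g J3.P.L0.hs)).index ≠ 1 := fun h =>
    h2 (le_antisymm hle (subgroupOf_eq_top.1 (index_eq_one.1 h)))
  have h5 := subgroupOfEquivOfLe hle
  rw [Nat.card_congr h5.toEquiv, hH] at h3
  have h6 : ((cl g [8, 16]).subgroupOf (cl g J3.P.L0.hs)).index = 2 := by
    generalize ((cl g [8, 16]).subgroupOf (cl g J3.P.L0.hs)).index = i at h3 h4
    rcases i with _ | _ | _ | i
    exacts [by omega, by omega, rfl, by nlinarith]
  have hN : Nat.card (cl g [8, 16]) = 4080 := by rw [h6] at h3; omega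
  have k : ∀ (l : List ℕ) (p : ℕ), eqChk (stepT 6156 13 J3.P.W) (idTab 6156 13)
      ((List.replicate p l).flatten, []) = true → evL g l ^ p = 1 := fun l p h => by
    exact Eq.trans (by simp [evL, List.prod_flatten, List.map_flatten]) (W.holds h)
  have e17 : ev g 8 * ev g 16 = e.symm x17 := by
    rw [e.eq_symm_apply, ← evL_two, W.holds (e := ([8, 16], [0x810])) (by decide +kernel), evL_one, ← hg]
    exact Subtype.ext (pull_ev e _ _)
  have o17 : orderOf (ev g 8 * ev g 16) = 17 := by rw [e17, e.symm.orderOf_eq, order17]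
  have hs : IsSimpleGroup (cl g [8, 16]) := simple_of_4080 hN (a := ⟨ev g 8, ev_mem_cl g (by simp)⟩)
    (b := ⟨ev g 16, ev_mem_cl g (by simp)⟩)
    (v := ⟨evL g [8, 16, 8, 16, 16], JT.evL_mem_cl (by simp)⟩)
    (by
      refine map_injective (subtype_injective _) ?_
      rw [MonoidHom.map_closure, ← MonoidHom.range_eq_map, range_subtype]
      exact congrArg Subgroup.closure (Set.ext fun x => by simp [eq_comm]))
    (fun h => M.smul_pt_ne (w := 8) (a := 1) (by norm_num) (by decide +kernel)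
      (by rw [show ev g 8 = 1 from congrArg Subtype.val h, one_smul]))
    (Subtype.ext (by simpa [evL_one] using k [8] 3 (by decide +kernel)))
    (Subtype.ext (by simpa [evL_one] using k [16] 3 (by decide +kernel)))
    (Subtype.ext (k _ 5 (by decide +kernel)))
    (Subtype.ext (by simpa [evL, mul_assoc] using k [8, 16, 8, 16, 16, 8] 5 (by decide +kernel)))
    ((orderOf_coe _).symm.trans o17)
    (Subtype.ext (by simpa [evL_three] using k [8, 16, 8] 17 (by decide +kernel))) fun t ht h => by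
      obtain ⟨_, z, _, _, _, _, _, A⟩ := HJC.amal_J3 e
      have h7 := SL2.card_centralizer_of_isConj (HJC.isConj_of_card A
        (by rw [Nat.card_congr e.toEquiv, J3.card_PG]; norm_num) A.pre.es.orderOf_eq
        ((orderOf_coe t).trans ht))
      have h8 := orderOf_dvd_natCard (⟨ev g 8 * ev g 16, mem_centralizer_singleton_iff.2
        (congrArg Subtype.val h).symm⟩ : centralizer ({(t : G)} : Set G))
      rw [orderOf_mk, o17, ← h7, A.card] at h8
      omega
  have := Fintype.ofFinite (GaloisField 2 4)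
  have hF : Fintype.card (GaloisField 2 4) = 16 := by
    rw [← Nat.card_eq_fintype_card, GaloisField.card 2 4 (by norm_num)]; rfl
  obtain ⟨f⟩ := Cfsg.Agent.S0981.result hN hF
  exact ⟨_, _, GaloisField 2 4, inferInstance, inferInstance, normal_of_index_eq_two h6, h6, hF,
    ⟨(h5.trans f).trans (SL2.pmEquiv (CharP.cast_eq_zero _ 2)).symm⟩⟩

end CfsgLib.JRec
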