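import Cfsg.Agent.Lib.JRec.Cert
import Cfsg.Agent.Lib.HJC.J3
import Cfsg.Agent.Lib.JT.Tools
import Cfsg.Agent.Lib.Abel2.Eight
import Cfsg.Agent.Lib.U43.Main
import Cfsg.Agent.Lib.SL2.Torus

/-!
# A presentation of the triple cover of the third Janko group
-/

set_option autoImplicit false
set_option maxRecDepth 100000
set_option Elab.async false

namespace CfsgLib.JRec

open CfsgLib.HJ Subgroup

variable {G G' : Type*} [Group G] [Group G']

/-- The relator `(n r n r⁻¹)⁴`. -/
def wK : List ℕ := (List.replicate 4 [8, 11, 5, 5, 8, 5, 11, 5]).flatten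

/-- The defining relations of the triple cover of the third Janko group. -/
structure RelK (L : ℕ → G) : Prop where
  lt : Letters L 3317950120735248
  rn : ∀ w ∈ relN, ev L w = 1
  rk : ev L wK = 1
  big : ∀ i, 12 < i → L i = 1

theorem ev_wK (L : ℕ → G) :
    ev L wK = ev L [] * (ev L [8] * (L 11 * L 5) * ev L [5, 8, 5] * (L 11 * L 5)) ^ 4 := by
  simp [wK, pow_succ, mul_assoc]

theorem gen_le_sup {L : ℕ → G} (hL : Letters L 3317950120735248) :
    gen L 12 ≤ gen L 10 ⊔ zpowers (L 11 * L 5) := by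
  have h : L 11 ∈ gen L 10 ⊔ zpowers (L 11 * L 5) := by
    simpa using mul_mem (mem_sup_right (mem_zpowers (L 11 * L 5)))
      (inv_mem (mem_sup_left (letter_mem_gen L (m := 10) (x := 5) (by norm_num) (by norm_num))))
  refine gen_le fun x h1 h2 => ?_
  rcases (by omega : x ≤ 10 ∨ x = 11 ∨ x = 12) with h3 | rfl | rfl
  · exact mem_sup_left (letter_mem_gen L h1 h3)
  · exact h
  · exact (eq_inv_of_mul_eq_one_right (hL.inv 11 (by norm_num)) : L 12 = _) ▸ inv_mem h

theorem sq_comm {N : Subgroup G} [Finite N] [hN : N.Normal] (h : Nat.card N ≤ 3) {x : G} (hx : x ∈ N)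
    (g : G) : g * g * x = x * (g * g) := by
  classical
  by_contra hc
  have h1 : g * x * g⁻¹ ≠ x := fun e => hc (by
    rw [mul_assoc, mul_inv_eq_iff_eq_mul.1 e, ← mul_assoc, mul_inv_eq_iff_eq_mul.1 e, mul_assoc])
  have h2 : g * (g * x * g⁻¹) * g⁻¹ ≠ x := fun e => hc (by nth_rewrite 2 [← e]; group)
  have h3 : x ≠ 1 := fun e => hc (by simp [e])
  have h4 : (({1, x, g * x * g⁻¹, g * (g * x * g⁻¹) * g⁻¹} : Finset G) : Set G) ⊆ N := by
    simp only [Finset.coe_insert, Finset.coe_singleton, Set.insert_subset_iff, Set.singleton_subset_iff]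
    exact ⟨one_mem _, hx, hN.conj_mem _ hx _, hN.conj_mem _ (hN.conj_mem _ hx _) _⟩
  have h5 := Set.ncard_le_ncard h4 (Set.toFinite _)
  rw [Set.ncard_coe_finset, Finset.card_insert_of_notMem (by simp [h3.symm, eq_comm (a := (1 : G)), h3]),
    Finset.card_insert_of_notMem (by simp [h1.symm, h2.symm]),
    Finset.card_pair (by simpa using h1.symm), ← Nat.card_coe_set_eq] at h5
  exact absurd (h5.trans h) (by norm_num)

namespace RelK

variable {L : ℕ → G} {L' : ℕ → G'}

theorem card_le [Finite G] (h : RelK L) (hc : Nat.card (gen L 10) = 1920) :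
    Nat.card (gen L 12) ≤ 78489 * 1920 := by
  obtain ⟨d, M⟩ := cc_mdl h.lt (fun w hw => h.rn w (List.mem_append_right _ hw)) hc
  exact p40_card M h.lt h.rn (ev_wK L ▸ h.rk) (gen_le_sup h.lt)

theorem prod (h : RelK L) (h' : RelK L') : RelK fun i => (L i, L' i) := by
  have k : ∀ w, ev L w = 1 → ev L' w = 1 → ev (fun i => (L i, L' i)) w = 1 := fun w a b =>
    Prod.ext ((map_ev (MonoidHom.fst G G') _ w).trans a) ((map_ev (MonoidHom.snd G G') _ w).trans b)
  exact ⟨⟨Prod.ext h.lt.zero h'.lt.zero, fun x hx => Prod.ext (h.lt.inv x hx) (h'.lt.inv x hx)⟩,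
    fun w hw => k w (h.rn w hw) (h'.rn w hw), k _ h.rk h'.rk,
    fun i hi => Prod.ext (h.big i hi) (h'.big i hi)⟩

theorem of_injective (f : G →* G') (hf : Function.Injective f) (h : RelK fun i => f (L i)) : RelK L := by
  have k : ∀ w, ev (fun i => f (L i)) w = 1 → ev L w = 1 := fun w a =>
    hf (by rw [map_ev, a, map_one])
  exact ⟨⟨hf (h.lt.zero.trans f.map_one.symm), fun x hx => hf (by rw [map_mul, h.lt.inv x hx, map_one])⟩,
    fun w hw => k w (h.rn w hw), k _ h.rk, fun i hi => hf ((h.big i hi).trans f.map_one.symm)⟩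

theorem mem_gen (h : RelK L) (i : ℕ) : L i ∈ gen L 12 := by
  rcases Nat.eq_zero_or_pos i with rfl | h1
  · rw [h.lt.zero]; exact one_mem _
  · rcases le_or_gt i 12 with h2 | h2
    · exact letter_mem_gen L h1 h2
    · rw [h.big i h2]; exact one_mem _

theorem exists_hom [Finite G] [Finite G'] (h : RelK L) (ht : gen L 12 = ⊤) (hc : Nat.card G = 50232960)
    (h' : RelK L') (hc' : Nat.card (gen L' 10) = 1920)
    (hx : ∀ x, (∀ g ∈ gen L' 12, g * g * x = x * (g * g)) → x = 1) :
    ∃ φ : G →* G', ∀ i, φ (L i) = L' i := by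
  have h1 : Nat.card (gen (fun i => (L i, L' i)) 10) = 1920 := by
    refine le_antisymm (card_le_of_relC (h.prod h').lt fun w hw =>
      (h.prod h').rn w (List.mem_append_right _ hw)).2 (hc' ▸ (card_le_of_le (gen_le fun x a b => ?_)).trans
        (Nat.le_of_dvd Nat.card_pos (card_map_dvd (gen (fun i => (L i, L' i)) 10) (MonoidHom.snd G G'))))
    exact ⟨_, letter_mem_gen _ a b, rfl⟩
  have h2 := (h.prod h').card_le h1
  let D := gen (fun i => (L i, L' i)) 12
  let π : D →* G := (MonoidHom.fst G G').comp D.subtype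
  let ρ : D →* G' := (MonoidHom.snd G G').comp D.subtype
  have hs : π.range = ⊤ := by
    rw [eq_top_iff, ← ht]
    exact gen_le fun x _ _ => ⟨⟨_, (h.prod h').mem_gen x⟩, rfl⟩
  have h3 := π.ker.card_mul_index
  rw [index_ker, hs, card_top, hc] at h3
  have hb : Function.Bijective π := ⟨(injective_iff_map_eq_one π).2 fun x e => by
    refine Subtype.ext (Prod.ext e (hx (ρ x) fun g hg => ?_))
    obtain ⟨g, rfl⟩ := gen_le (K := ρ.range) (fun x _ _ => ⟨⟨_, (h.prod h').mem_gen x⟩, rfl⟩) hg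
    simpa only [map_mul] using congrArg ρ (sq_comm (N := π.ker) (by change Nat.card D ≤ _ at h2; omega) e g),
    MonoidHom.range_eq_top.1 hs⟩
  refine ⟨ρ.comp (MulEquiv.ofBijective π hb).symm, fun i => ?_⟩
  have : (MulEquiv.ofBijective π hb).symm (L i) = ⟨_, (h.prod h').mem_gen i⟩ :=
    (MulEquiv.symm_apply_eq _).2 rfl
  simp [this, ρ]

end RelK

/-- The letters as words in the permutation model of degree `6156`. -/
def wX : List ℕ := [0x1a, 0x1d0a040c08141115, 0xb07160116090c11151a, 0x141518, 0x1d0a040c080c1018,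
  0xb07160116091415181a, 0x41d0a1008181a, 0x70303190b0c10151a, 0x140208151a, 0x150208141a,
  0x10140702130a171015181a, 0xc0e0301140a1710181a]

theorem wm : Comput.WM J3.p (Comput.stepT 6156 13 J3.P.W) (Comput.idTab 6156 13) :=
  Comput.WM.perm J3.P.W_ok (by norm_num)

theorem memX (i : ℕ) : Comput.ev J3.p (Comput.nth 0 (0 :: wX) i) ∈ J3.PG :=
  Comput.ev_mem_of_all HJC.p3_mem _

/-- The letters in the permutation model of degree `6156`. -/
noncomputable def LX (i : ℕ) : J3.PG := ⟨_, memX i⟩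

theorem chkX : Comput.allL (fun w => Comput.eqChk (Comput.stepT 6156 13 J3.P.W) (Comput.idTab 6156 13)
    (w.map (Comput.nth 0 (0 :: wX)), []))
    ((List.range 16).map (fun x => [x, ivl 3317950120735248 x]) ++ wK :: relN) = true := by
  decide +kernel

theorem relX : RelK LX := by
  refine RelK.of_injective J3.PG.subtype Subtype.val_injective ?_
  have k : ∀ w ∈ (List.range 16).map (fun x => [x, ivl 3317950120735248 x]) ++ wK :: relN,
      ev (fun i => Comput.ev J3.p (Comput.nth 0 (0 :: wX) i)) w = 1 := fun w hw =>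
    (evL_map _ _ w).symm.trans (wm.holds (Comput.allL_sound chkX w hw))
  refine ⟨⟨rfl, fun x hx => ?_⟩, fun w hw => k w (by simp [hw]), k _ (by simp), fun i hi => ?_⟩
  · simpa [LX] using k _ (List.mem_append_left _ (List.mem_map_of_mem (List.mem_range.2 hx)))
  · show Comput.ev J3.p (Comput.nth 0 (0 :: wX) i) = 1
    rw [Comput.nth_eq_getD, List.getD_eq_default _ _ (by simp [wX]; omega)]; rfl

theorem genX : gen LX 12 = ⊤ := by
  have h := Comput.lbVal_le_of_inA (J3.P.M.words wX) (L := (gen LX 12).map J3.PG.subtype) (A := 4095)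
    (fun m hm => ⟨LX (m + 1), relX.mem_gen _, rfl⟩)
    (lv := [(535, 6, [5, 7, 8, 9, 11]), (4155, 4, [1, 7, 8, 0x0302090203, 0x0b08030b080b03080c]),
      (2, 2, [1, 7, 8])]) (v := 50232960) (by decide +kernel)
  rw [card_subtype] at h
  exact eq_top_of_le_card _ (J3.card_PG ▸ h)

theorem RelK.exists_inj [Finite G] {L : ℕ → G} (h : RelK L) (h1 : L 1 ≠ 1)
    (hc : Nat.card (gen L 10) = 1920) (hx : ∀ x, (∀ g ∈ gen L 12, g * g * x = x * (g * g)) → x = 1) :
    ∃ φ : J3.PG →* G, Function.Injective φ ∧ ∀ i, φ (LX i) = L i := by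
  obtain ⟨φ, hφ⟩ := relX.exists_hom genX J3.card_PG h hc hx
  refine ⟨φ, (MonoidHom.ker_eq_bot_iff φ).1 ((IsSimpleGroup.eq_bot_or_eq_top_of_normal φ.ker
    inferInstance).resolve_right fun e => h1 ?_), hφ⟩
  rw [← hφ]; exact (e ▸ mem_top _ : LX 1 ∈ φ.ker)

/-- An element of order seventeen. -/
noncomputable def x17 : J3.PG := ⟨Comput.ev J3.p 0x810, Comput.ev_mem_of_all HJC.p3_mem _⟩

/-- Every second point of each cycle. -/
def A17 : ℕ := 0x39e01ccd8f4d1624bd593e93348fc246fa36a084ca081471b8bb21b19113d4806c079c80bd800f5a7005fc492ca2360c10bebc10c298cdb1f14974f1575c981ca8539112985f648e0591dd4109660a211b8254da6c1a4614340b1b2f2622c589864a528b290bee928177422c8d357dad2975732423797c105a3819a0039a30a2184238dbb5f4b263f822cca88c688c6241413fb6c3e410f7f6732c986f308f4da4563620e86864d400599ff070d088df02a141a8c920600e0298b0603a42dd148b305908d6090985c8793317c1b00d18c3b5a0370439d4b2453721c5a7b4c8e440cf4dafe01fa40b223c5b31d12f58c37fc003ae00d9dbd1cb8fd2baa9dbcf909d103d9050a02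7b50a62df65363837798803f1ac5d79c42a58229aa863140a55f93fac264b185c5725841eae4ea0af283f4963411413f4601d1d9148c42421da4b4e0e62b4665587af018467411594cea09d04d461c1888a4de29c693cd13f4edbb8427d60df5aa662089cbcb018f8b08765144a79b4ed25b8957a101076c0e10d25b03ec9903b22e1501020b298d23aea1a9b62c0a1cd9d4538c4eb15cb6b1d46b05417e43367a0010294a2302aa1208fa20083c7dd2f4d76840bd2d4206b4885b8f02a001c40b1443368a3da44623c8e2e0834ef11011182e00b7c6cc9ede4f10878d1183004507271001a60c7ec82718cd300a37f11a9c07c48be97d33802607f176fa5c88854e945dc053b4cf0a90912d744a1eb58c6800d0227226c5f32bebdbfe491c314ef93e0c711a29eaa91a11419bb5b12b518aea3302321817c6d14ef6018b8060e87b6c1f1553b23bb80f8ac505552d08dc2ec421ad60297f0506d58c42f365b367cb38da9aa23c5ea04f8e99f9c9a819b534bf3bd8634ea96a7a738136b987a308fcc02bae439a10044a90756e18cc1ce3c2a027ee90a7e7da15bb0991d80ee42821320a6686329b290ffe498afca11f3dec2a3b9c52edf6fc3a4b3c75b4e5df43af5aeeffe9fbe0b3deed647efd7cb63fc61bf26f67ffed2cf743633f6df7f89fdafcbfbdb9fdefed6f7fcefffff7cff6fefffffffffffffffffe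

/-- The points that are neither in the set nor in its image. -/
noncomputable def out17 (A : ℕ) : ℕ :=
  Nat.xor (2 ^ 6156 - 1) (Nat.lor A (Comput.act (Comput.stepN J3.P.W) 0x810 A))

theorem chk17 : Comput.fixOK (Comput.stepN J3.P.W) 6156 0x810 A17 (out17 A17) = true ∧
    Comput.fixOK (Comput.stepN J3.P.W) 6156 0x810 (Comput.act (Comput.stepN J3.P.W) 0x810 A17)
      (out17 (Comput.act (Comput.stepN J3.P.W) 0x810 A17)) = true ∧
    Comput.pop 6156 (out17 A17 &&& out17 (Comput.act (Comput.stepN J3.P.W) 0x810 A17)) = 2 := by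
  decide +kernel

theorem fix17 : (MulAction.fixedBy (Fin 6156) (x17 : Equiv.Perm (Fin 6156))).ncard ≤ 2 := by
  rw [← chk17.2.2, ← J3.P.M.ncard_sem, Comput.sem_land J3.P.M]
  refine Set.ncard_le_ncard fun i hi => ?_
  rw [← Comput.finPt_coe i] at hi ⊢
  exact ⟨J3.P.M.mem_of_fixOK chk17.1 i.2 hi, J3.P.M.mem_of_fixOK chk17.2.1 i.2 hi⟩

theorem order17 : orderOf x17 = 17 := by
  have : Fact (Nat.Prime 17) := ⟨by norm_num⟩
  refine orderOf_eq_prime (Subtype.ext ?_) fun e => J3.P.M.smul_pt_ne (w := 0x810) (a := 1) (by norm_num)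
    (by decide +kernel) (by rw [show Comput.ev J3.p 0x810 = 1 from congrArg Subtype.val e, one_smul])
  exact (Comput.evL_replicate _ _ _).symm.trans
    (wm.holds (e := (List.replicate 17 0x810, [])) (by decide +kernel))

theorem cent17 : ¬ 9 ∣ Nat.card (centralizer ({x17} : Set J3.PG)) := by
  let C := (centralizer ({x17} : Set J3.PG)).map J3.PG.subtype
  have h1 := Comput.card_eq_ncard_orbit_mul C (Comput.finPt 6156 0)
  have h2 : (MulAction.orbit C (Comput.finPt 6156 0)).ncard ≤ 2 := by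
    refine (Set.ncard_le_ncard ?_).trans fix17
    rintro _ ⟨⟨_, c, hc, rfl⟩, rfl⟩
    exact JT.smul_mem_fixedBy (congrArg Subtype.val (mem_centralizer_singleton_iff.1 hc))
      (MulAction.mem_fixedBy.2 (J3.P.M.smul_pt (w := 0x810) (by norm_num) (by norm_num) (by decide +kernel)))
  have h3 : Nat.card (C ⊓ MulAction.stabilizer _ (Comput.finPt 6156 0) : Subgroup _) ∣ 8160 := by
    rw [← J3.P.card_1 J3.P.M J3.P.E]
    refine card_dvd_of_le ?_
    rintro _ ⟨⟨c, -, rfl⟩, hc⟩
    exact (J3.P.good_0 J3.P.M J3.P.E).1.stab _ (J3.P.top_eq J3.P.E ▸ c.2) 1 (one_mem _)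
      (by rw [one_smul]; exact hc)
  rw [card_subtype] at h1
  have h4 : 0 < Nat.card (centralizer ({x17} : Set J3.PG)) := Nat.card_pos
  intro h
  rw [h1] at h h4
  generalize (MulAction.orbit C (Comput.finPt 6156 0)).ncard = a at h h2 h4
  refine absurd (h.trans (Nat.mul_dvd_mul_left a h3)) ?_
  interval_cases a <;> simp at h4 ⊢

theorem cent_of_order {x : J3.PG} (hx : orderOf x = 17) :
    ¬ 9 ∣ Nat.card (centralizer ({x} : Set J3.PG)) := by
  have : Fact (Nat.Prime 17) := ⟨by norm_num⟩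
  have hz : Nat.card (zpowers x17) = 17 := by rw [Nat.card_zpowers, order17]
  have e := (zpowers x17).card_mul_index
  rw [hz, J3.card_PG] at e
  obtain ⟨y, hy, y1, c⟩ := JT.exists_conj_vals ((IsPGroup.of_card (n := 1) hz).toSylow (by omega)) hx
  rw [SL2.card_centralizer_of_isConj c]
  refine fun h => cent17 (h.trans (card_dvd_of_le fun g hg => ?_))
  obtain ⟨k, hk⟩ : x17 ∈ zpowers y := by
    have := zpowers_eq_top_of_prime_card (G := zpowers x17) (g := ⟨y, hy⟩) hz fun e => y1 (congrArg Subtype.val e)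
    obtain ⟨k, hk⟩ : (⟨x17, mem_zpowers _⟩ : zpowers x17) ∈ zpowers ⟨y, hy⟩ := this ▸ mem_top _
    exact ⟨k, congrArg Subtype.val hk⟩
  rw [← hk]
  exact mem_centralizer_singleton_iff.2
    ((show Commute g y from mem_centralizer_singleton_iff.1 hg).zpow_right k).eq

theorem not_odd {D : Subgroup J3.PG} (ho : Odd (Nat.card D)) : ¬ 26163 ∣ Nat.card D := by
  have : Fact (Nat.Prime 17) := ⟨by norm_num⟩
  rintro ⟨k, hk⟩
  have h1 := D.card_mul_index
  rw [J3.card_PG, hk] at h1
  have h2 : k * D.index = 2 ^ 7 * 15 := by nlinarith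
  have h3 : k ∣ 15 := (Nat.Coprime.pow_right 7 (Nat.coprime_two_right.2
    (Nat.odd_mul.1 (hk ▸ ho)).2)).dvd_of_dvd_mul_left (Dvd.intro _ h2)
  have hk' : k = 1 ∨ k = 3 ∨ k = 5 ∨ k = 15 := by
    have := Nat.le_of_dvd (by norm_num) h3
    interval_cases k <;> omega
  obtain ⟨P⟩ : Nonempty (Sylow 17 D) := inferInstance
  have hP : Nat.card P = 17 := Abel2.card_sylow_of_eq (k := 1) (m := 1539 * k) P (by omega) (by omega)
  have h4 : 9 ∣ Nat.card (normalizer ((P : Subgroup D) : Set D)) := by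
    have e1 := card_mul_index (normalizer ((P : Subgroup D) : Set D))
    have e2 := card_sylow_modEq_one 17 D
    have e3 := P.card_dvd_index
    have e4 := P.1.card_mul_index
    rw [P.card_eq_index_normalizer] at e2 e3
    rw [hP, hk] at e4
    rw [show (P : Subgroup D).index = 1539 * k by omega] at e3
    change (normalizer ((P : Subgroup D) : Set D)).index ≡ 1 [MOD 17] at e2
    change (normalizer ((P : Subgroup D) : Set D)).index ∣ _ at e3
    have k1 : ∀ m ∈ Nat.divisors 23085, m ≡ 1 [MOD 17] → m = 1 ∨ m = 171 := by decide +kernel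
    rcases k1 _ (Nat.mem_divisors.2 ⟨e3.trans (Nat.mul_dvd_mul_left 1539 h3), by norm_num⟩) e2 with e | e <;>
      rw [e, hk] at e1 <;> omega
  obtain ⟨⟨x, hx⟩, ox⟩ := exists_prime_orderOf_dvd_card' (G := P) 17 (by rw [hP])
  rw [orderOf_mk, ← orderOf_coe] at ox
  refine cent_of_order ox (h4.trans ?_)
  rw [← card_subtype]
  refine card_dvd_of_le ?_
  rintro _ ⟨g, hg, rfl⟩
  have := U43.mem_centralizer_of_prime (by norm_num) hP hg (Nat.Coprime.pow_right 4
    (Nat.coprime_two_right.2 (ho.of_dvd_nat (orderOf_dvd_natCard g))))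
  exact mem_centralizer_singleton_iff.2 (congrArg Subtype.val (this x hx).symm)

end CfsgLib.JRec
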