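import Cfsg.Agent.Lib.JRec.Cent

/-!
# Sylow subgroups of prime order in the third Janko group
-/

set_option autoImplicit false
set_option maxRecDepth 100000

namespace CfsgLib.JRec

open Subgroup

variable {G : Type*} [Group G]

theorem exists_conj_zpowers [Finite G] {p : ℕ} [Fact p.Prime] (X : Sylow p G)
    (hX : Nat.card (X : Subgroup G) = p) {x : G} (hx : orderOf x = p) :
    ∃ g : G, zpowers (g * x * g⁻¹) = X := by
  obtain ⟨Q, hQ⟩ := (IsPGroup.of_card (n := 1) (G := zpowers x)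
    (by rw [Nat.card_zpowers, hx, pow_one])).exists_le_sylow
  obtain ⟨g, rfl⟩ := MulAction.exists_smul_eq G Q X
  refine ⟨g, eq_of_le_of_card_ge (zpowers_le.2 ⟨x, hQ (mem_zpowers x), rfl⟩) ?_⟩
  rw [hX, Nat.card_zpowers, ← hx]
  exact ((MulAut.conj g).orderOf_eq x).ge

theorem isCyclic_mulAut {p : ℕ} [Fact p.Prime] {A : Type*} [Group A] (h : Nat.card A = p) :
    IsCyclic (MulAut A) ∧ Nat.card (MulAut A) = p - 1 := by
  have := isCyclic_of_prime_card h
  have : Finite A := Nat.finite_of_card_ne_zero (h ▸ (Fact.out : p.Prime).ne_zero)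
  refine ⟨?_, by rw [IsCyclic.card_mulAut, h, Nat.totient_prime Fact.out]⟩
  have e := IsCyclic.mulAutMulEquiv A
  rw [h] at e
  exact isCyclic_of_injective e.toMonoidHom e.injective

/-- the numerical data of a Sylow subgroup of prime order -/
theorem sylow_prime_data [Finite G] {p : ℕ} [Fact p.Prime] (X : Sylow p G)
    (hX : Nat.card (X : Subgroup G) = p) : ∃ k m : ℕ, k ∣ p - 1 ∧ m % p = 1 ∧
      m * (Nat.card (centralizer ((X : Subgroup G) : Set G)) * k) = Nat.card G ∧
      Nat.card (normalizer ((X : Subgroup G) : Set G)) =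
        Nat.card (centralizer ((X : Subgroup G) : Set G)) * k ∧
      ∀ n ∈ normalizer ((X : Subgroup G) : Set G), n ^ k ∈ centralizer ((X : Subgroup G) : Set G) := by
  have h1 := (normalizerMonoidHom (X : Subgroup G)).ker.card_mul_index
  have h2 : Nat.card (normalizerMonoidHom (X : Subgroup G)).ker =
      Nat.card (centralizer ((X : Subgroup G) : Set G)) := by
    rw [normalizerMonoidHom_ker]
    exact Nat.card_congr (subgroupOfEquivOfLe (centralizer_le_normalizer _)).toEquiv
  have h3 := card_sylow_modEq_one p G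
  rw [X.card_eq_index_normalizer] at h3
  refine ⟨(normalizerMonoidHom (X : Subgroup G)).ker.index, _, ?_,
    Eq.trans h3 (Nat.mod_eq_of_lt (Fact.out : p.Prime).one_lt), ?_, by rw [← h1, h2], fun n hn => ?_⟩
  · rw [index_ker, ← (isCyclic_mulAut hX).2]
    exact card_subgroup_dvd_card _
  · rw [← h2, h1, mul_comm]
    exact card_mul_index _
  · have := (normalizerMonoidHom (X : Subgroup G)).ker.pow_index_mem ⟨n, hn⟩
    nth_rewrite 1 [normalizerMonoidHom_ker] at this
    exact this

theorem sylow_prime_quot [Finite G] {p k : ℕ} [Fact p.Prime] (X : Sylow p G)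
    (hX : Nat.card (X : Subgroup G) = p)
    (hC : Nat.card (centralizer ((X : Subgroup G) : Set G)) = p)
    (hN : Nat.card (normalizer ((X : Subgroup G) : Set G)) = p * k) :
    centralizer ((X : Subgroup G) : Set G) = X ∧
      ∃ _ : ((X : Subgroup G).subgroupOf (normalizer ((X : Subgroup G) : Set G))).Normal,
        IsCyclic (↥(normalizer ((X : Subgroup G) : Set G)) ⧸ (X : Subgroup G).subgroupOf _) ∧
        Nat.card (↥(normalizer ((X : Subgroup G) : Set G)) ⧸ (X : Subgroup G).subgroupOf _) = k := by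
  have := isCyclic_of_prime_card hX
  have h1 : centralizer ((X : Subgroup G) : Set G) = X :=
    (eq_of_le_of_card_ge (le_centralizer _) (by rw [hC, hX])).symm
  refine ⟨h1, inferInstance, ?_, ?_⟩
  · have := (isCyclic_mulAut hX).1
    have e : (X : Subgroup G).subgroupOf (normalizer ((X : Subgroup G) : Set G)) =
        (normalizerMonoidHom (X : Subgroup G)).ker := by rw [normalizerMonoidHom_ker, h1]
    have f := (QuotientGroup.quotientMulEquivOfEq e).trans
      (QuotientGroup.quotientKerEquivRange (normalizerMonoidHom (X : Subgroup G)))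
    exact isCyclic_of_surjective f.symm f.symm.surjective
  · have h2 := ((X : Subgroup G).subgroupOf (normalizer ((X : Subgroup G) : Set G))).card_mul_index
    rw [Nat.card_congr (subgroupOfEquivOfLe le_normalizer).toEquiv, hX, hN] at h2
    exact Nat.eq_of_mul_eq_mul_left (Fact.out : p.Prime).pos h2

theorem cent17' : Nat.card (centralizer ({x17} : Set J3.PG)) ∣ 16320 := by
  let C := (centralizer ({x17} : Set J3.PG)).map J3.PG.subtype
  have h1 := Comput.card_eq_ncard_orbit_mul C (Comput.finPt 6156 0)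
  have h2 : (MulAction.orbit C (Comput.finPt 6156 0)).ncard ≤ 2 := by
    refine (Set.ncard_le_ncard ?_).trans fix17
    rintro _ ⟨⟨_, c, hc, rfl⟩, rfl⟩
    exact JT.smul_mem_fixedBy (congrArg Subtype.val (mem_centralizer_singleton_iff.1 hc))
      (MulAction.mem_fixedBy.2 (J3.P.M.smul_pt (w := 0x810) (by norm_num) (by norm_num) (by decide +kernel)))
  have h3 : Nat.card (C ⊓ MulAction.stabilizer _ (Comput.finPt 6156 0) : Subgroup _) ∣ 8160 := by
    rw [← J3.P.card_1 J3.P.M J3.P.E]
    refine card_dvd_of_le ?_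
    rintro _ ⟨⟨c, -, rfl⟩, hc⟩
    exact (J3.P.good_0 J3.P.M J3.P.E).1.stab _ (J3.P.top_eq J3.P.E ▸ c.2) 1 (one_mem _)
      (by rw [one_smul]; exact hc)
  rw [card_subtype] at h1
  have h4 : 0 < Nat.card (centralizer ({x17} : Set J3.PG)) := Nat.card_pos
  rw [h1] at h4 ⊢
  generalize (MulAction.orbit C (Comput.finPt 6156 0)).ncard = a at h2 h4
  refine (Nat.mul_dvd_mul_left a h3).trans ?_
  interval_cases a <;> simp at h4 ⊢

theorem exists19 : ∃ x n : J3.PG, orderOf x = 19 ∧ n * x * n⁻¹ = x ^ 4 := by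
  have : Fact (Nat.Prime 19) := ⟨by norm_num⟩
  refine ⟨⟨Comput.ev J3.p 0x50d, Comput.ev_mem_of_all HJC.p3_mem _⟩,
    ⟨Comput.ev J3.p 0x181c0516, Comput.ev_mem_of_all HJC.p3_mem _⟩, orderOf_eq_prime (Subtype.ext ?_)
      fun e => J3.P.M.smul_pt_ne (w := 0x50d) (a := 0) (by norm_num) (by decide +kernel)
        (by rw [show Comput.ev J3.p 0x50d = 1 from congrArg Subtype.val e, one_smul]),
    mul_inv_eq_iff_eq_mul.2 (Subtype.ext ?_)⟩
  · exact (Comput.evL_replicate _ _ _).symm.trans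
      (wm.holds (e := (List.replicate 19 0x50d, [])) (by decide +kernel))
  · have := wm.holds (e := ([0x181c0516, 0x50d], [0x50d, 0x50d, 0x50d, 0x50d, 0x181c0516]))
      (by decide +kernel)
    simpa [Comput.Eqn.Holds, Comput.evL, pow_succ, mul_assoc] using this

/-- Sylow subgroups for `17` and `19` -/
theorem sylow_17_19 [Finite G] (e : J3.PG ≃* G)
    (ht : ∀ t : G, orderOf t = 2 → Nat.card (centralizer ({t} : Set G)) = 1920) :
    (∀ X : Sylow 19 G, Nat.card (X : Subgroup G) = 19 ∧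
      Nat.card (centralizer ((X : Subgroup G) : Set G)) = 19 ∧
      Nat.card (normalizer ((X : Subgroup G) : Set G)) = 19 * 9) ∧
    ∀ X : Sylow 17 G, Nat.card (X : Subgroup G) = 17 ∧
      Nat.card (centralizer ((X : Subgroup G) : Set G)) = 17 ∧
      Nat.card (normalizer ((X : Subgroup G) : Set G)) = 17 * 8 := by
  have : Fact (Nat.Prime 17) := ⟨by norm_num⟩
  have : Fact (Nat.Prime 19) := ⟨by norm_num⟩
  have hG : Nat.card G = 50232960 := (Nat.card_congr e.toEquiv).symm.trans J3.card_PG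
  have odd : ∀ x : G, ¬ orderOf x ∣ 1920 → ¬ 2 ∣ Nat.card (centralizer ({x} : Set G)) := fun x hx h => by
    obtain ⟨t, h2⟩ := exists_prime_orderOf_dvd_card' 2 h
    rw [← ht t (by rwa [orderOf_coe])] at hx
    exact hx (Subgroup.orderOf_dvd_natCard _ (mem_centralizer_singleton_iff.2
      (mem_centralizer_singleton_iff.1 t.2).symm))
  have cz : ∀ x : G, centralizer ((zpowers x : Subgroup G) : Set G) = centralizer {x} :=
    Core.centralizer_zpowers
  have h17 : ∀ X : Sylow 17 G, Nat.card (X : Subgroup G) = 17 ∧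
      Nat.card (centralizer ((X : Subgroup G) : Set G)) = 17 ∧
      Nat.card (normalizer ((X : Subgroup G) : Set G)) = 17 * 8 := fun X => by
    have hX : Nat.card (X : Subgroup G) = 17 :=
      Abel2.card_sylow_of_eq (k := 1) (m := 2954880) X (by omega) (by omega)
    have hx : orderOf (e x17) = 17 := (e.orderOf_eq _).trans order17
    obtain ⟨g, hg⟩ := exists_conj_zpowers X hX hx
    obtain ⟨k, m, h1, h2, h3, h4, -⟩ := sylow_prime_data X hX
    have h5 : Nat.card (centralizer ((X : Subgroup G) : Set G)) ∣ 16320 := by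
      rw [← hg, cz, ← SL2.card_centralizer_of_isConj (isConj_iff.2 ⟨g, rfl⟩)]
      refine (Nat.card_congr (Equiv.subtypeEquiv e.toEquiv fun a => ?_)).symm.dvd.trans cent17'
      simp only [mem_centralizer_singleton_iff, MulEquiv.toEquiv_eq_coe, EquivLike.coe_coe, ← map_mul,
        e.apply_eq_iff_eq]
    have h6 : ¬ 2 ∣ Nat.card (centralizer ((X : Subgroup G) : Set G)) := by
      rw [← hg, cz]
      exact odd _ (by rw [show orderOf (g * e x17 * g⁻¹) = 17 from
        ((MulAut.conj g).orderOf_eq _).trans hx]; norm_num)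
    have key : ∀ c ∈ Nat.divisors 16320, ∀ k ∈ Nat.divisors 16, ¬ 2 ∣ c → c * k ∣ 50232960 →
        50232960 / (c * k) % 17 = 1 → c = 17 ∧ k = 8 := by decide +kernel
    rw [hG] at h3
    obtain ⟨e1, e2⟩ := key _ (Nat.mem_divisors.2 ⟨h5, by norm_num⟩) k
      (Nat.mem_divisors.2 ⟨h1, by norm_num⟩) h6 (Dvd.intro_left _ h3) (by
        rw [← h3, Nat.mul_div_cancel _ (Nat.pos_of_mul_pos_left (a := m) (by omega)), h2])
    exact ⟨hX, e1, by rw [h4, e1, e2]⟩
  refine ⟨fun X => ?_, h17⟩
  have hX : Nat.card (X : Subgroup G) = 19 :=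
    Abel2.card_sylow_of_eq (k := 1) (m := 2643840) X (by omega) (by omega)
  obtain ⟨x, n, hx, hn⟩ : ∃ x n : G, orderOf x = 19 ∧ n * x * n⁻¹ = x ^ 4 := by
    obtain ⟨x, n, hx, hn⟩ := exists19
    exact ⟨e x, e n, (e.orderOf_eq _).trans hx, by rw [← map_inv, ← map_mul, ← map_mul, hn, map_pow]⟩
  obtain ⟨x, n, hx, hn, hg⟩ : ∃ x n : G, orderOf x = 19 ∧ n * x * n⁻¹ = x ^ 4 ∧ zpowers x = X := by
    obtain ⟨g, hg⟩ := exists_conj_zpowers X hX hx
    exact ⟨g * x * g⁻¹, g * n * g⁻¹, ((MulAut.conj g).orderOf_eq _).trans hx, by rw [conj_pow, ← hn]; group, hg⟩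
  obtain ⟨k, m, h1, h2, h3, h4, h5⟩ := sylow_prime_data X hX
  have h6 : ∀ j : ℕ, n ^ j * x * (n ^ j)⁻¹ = x ^ 4 ^ j := fun j => by
    induction j with
    | zero => simp
    | succ j ih => rw [pow_succ' 4, pow_mul, ← hn, conj_pow, ← ih, pow_succ']; group
  have h7 : n ∈ normalizer ((X : Subgroup G) : Set G) := by
    rw [← hg]
    refine mem_normalizer_fintype ?_
    rintro _ ⟨j, rfl⟩
    rw [← conj_zpow, hn]
    exact zpow_mem (pow_mem (mem_zpowers x) 4) j
  have h8 : 4 ^ k ≡ 1 [MOD 19] := by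
    have := h5 n h7
    rw [← hg, cz, mem_centralizer_singleton_iff, ← mul_inv_eq_iff_eq_mul, h6] at this
    rw [← hx, ← pow_eq_pow_iff_modEq, this, pow_one]
  have h9 : ¬ 2 ∣ Nat.card (centralizer ((X : Subgroup G) : Set G)) := by
    rw [← hg, cz]
    exact odd _ (by rw [hx]; norm_num)
  have h10 : ¬ 17 ∣ Nat.card (centralizer ((X : Subgroup G) : Set G)) := fun h => by
    rw [← hg, cz] at h
    obtain ⟨y, hy⟩ := exists_prime_orderOf_dvd_card' 17 h
    obtain ⟨Y⟩ : Nonempty (Sylow 17 G) := inferInstance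
    obtain ⟨g, hg'⟩ := exists_conj_zpowers Y (h17 Y).1 ((orderOf_coe y).trans hy)
    have := (h17 Y).2.1
    rw [← hg', cz, ← SL2.card_centralizer_of_isConj (isConj_iff.2 ⟨g, rfl⟩)] at this
    have h' := Subgroup.orderOf_dvd_natCard _ (mem_centralizer_singleton_iff.2
      (mem_centralizer_singleton_iff.1 y.2).symm)
    rw [this, hx] at h'
    norm_num at h'
  rw [hG] at h3
  have h11 : Nat.card (centralizer ((X : Subgroup G) : Set G)) ∣ 23085 := by
    have a1 : Nat.card (centralizer ((X : Subgroup G) : Set G)) ∣ 2 ^ 7 * (17 * 23085) :=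
      (Dvd.intro _ rfl).trans (Dvd.intro_left _ h3)
    exact ((Nat.Prime.coprime_iff_not_dvd (by norm_num)).2 h10).symm.dvd_of_dvd_mul_left
      ((((Nat.Prime.coprime_iff_not_dvd Nat.prime_two).2 h9).symm.pow_right 7).dvd_of_dvd_mul_left a1)
  have key : ∀ c ∈ Nat.divisors 23085, ∀ k ∈ Nat.divisors 18, 4 ^ k % 19 = 1 % 19 → c * k ∣ 50232960 →
      50232960 / (c * k) % 19 = 1 → c = 19 ∧ k = 9 := by decide +kernel
  obtain ⟨e1, e2⟩ := key _ (Nat.mem_divisors.2 ⟨h11, by norm_num⟩) k
    (Nat.mem_divisors.2 ⟨h1, by norm_num⟩) h8 (Dvd.intro_left _ h3) (by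
      rw [← h3, Nat.mul_div_cancel _ (Nat.pos_of_mul_pos_left (a := m) (by omega)), h2])
  exact ⟨hX, e1, by rw [h4, e1, e2]⟩

end CfsgLib.JRec
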